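import Groth.Agent.LieKolchin.Basic
import Groth.Agent.Comodule.ConnDomain
import Groth.Agent.Comodule.CharIndep

/-! Lie–Kolchin for the points of a connected affine group. -/

set_option autoImplicit false
set_option backward.isDefEq.respectTransparency false
universe u v w

open TensorProduct WithConv
open scoped commutatorElement

noncomputable section

namespace Groth.Agent.LieKolchin

open Groth.Agent.Comodule

variable (k : Type u) [Field k] (A : Type v) [CommRing A] [HopfAlgebra k A]

/-- Regular functions on the group of points. -/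
def regFun : Set (WithConv (A →ₐ[k] k) → k) := Set.range fun a g => g.ofConv a

/-- Post-composition with a point. -/
def evalAt (g : WithConv (A →ₐ[k] k)) : WithConv (A →ₐ[k] A) →* WithConv (A →ₐ[k] k) :=
  MonoidHom.mk' (fun P => toConv (g.ofConv.comp P.ofConv)) fun P Q => by
    refine WithConv.ofConv_injective ?_
    exact AlgHom.comp_convMul_distrib g.ofConv P Q

variable {k A}

theorem evalAt_id (g : WithConv (A →ₐ[k] k)) : evalAt k A g (toConv (AlgHom.id k A)) = g := rfl

theorem evalAt_const (g x : WithConv (A →ₐ[k] k)) :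
    evalAt k A g (toConv ((Algebra.ofId k A).comp x.ofConv)) = x :=
  WithConv.ofConv_injective (AlgHom.ext fun a => by simp [evalAt])

theorem wordClosed_regFun : WordClosed (regFun k A) := by
  rintro _ ⟨a, rfl⟩ x z h
  let C : WithConv (A →ₐ[k] k) → WithConv (A →ₐ[k] A) := fun x => toConv ((Algebra.ofId k A).comp x.ofConv)
  let U : WithConv (A →ₐ[k] A) := toConv (AlgHom.id k A)
  refine ⟨(C x * (U * C h * U⁻¹ * (C h)⁻¹) * C z).ofConv a, funext fun g => ?_⟩
  have h1 : evalAt k A g (C x * (U * C h * U⁻¹ * (C h)⁻¹) * C z) = x * ⁅g, h⁆ * z := by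
    simp only [map_mul, map_inv, C, U, evalAt_id, evalAt_const, commutatorElement_def]
  rw [← h1]
  rfl

theorem eq_zero_of_forall_point [IsAlgClosed k] [Algebra.FiniteType k A] [IsReduced A] {a : A}
    (h : ∀ φ : A →ₐ[k] k, φ a = 0) : a = 0 := by
  by_contra ha
  obtain ⟨φ, hφ⟩ := ConnDomain.exists_pt_of_not_isNilpotent (k := k) (a := a) (fun hn => ha hn.eq_zero)
  exact hφ (h φ)

theorem conn_top [IsAlgClosed k] [Algebra.FiniteType k A] [IsReduced A]
    (hconn : ∀ e : A, IsIdempotentElem e → e = 0 ∨ e = 1) : Conn (regFun k A) ⊤ := by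
  rintro _ ⟨a, rfl⟩ hfin g -
  haveI := ConnDomain.isDomain_of_connected (A := A) k hconn
  have h0 : ∏ c ∈ hfin.toFinset, (a - algebraMap k A c) = 0 := by
    refine eq_zero_of_forall_point (k := k) fun φ => ?_
    rw [map_prod]
    refine Finset.prod_eq_zero (i := φ a) (hfin.mem_toFinset.mpr ⟨toConv φ, trivial, rfl⟩) ?_
    simp
  obtain ⟨c, -, hc⟩ := Finset.prod_eq_zero_iff.mp h0
  simp [sub_eq_zero.mp hc]

variable (k A) (V : Type w) [AddCommGroup V] [Module k V] [HopfRep.Comod k A V]

/-- The representation of the group of points attached to a comodule. -/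
def actHom : WithConv (A →ₐ[k] k) →* Module.End k V where
  toFun g := dact g.ofConv.toLinearMap
  map_one' := LinearMap.ext fun v => dact_one v
  map_mul' g h := LinearMap.ext fun v => by
    rw [Module.End.mul_apply, ← dact_mul, ← AlgHom.toLinearMap_convMul]

variable {k A V}

theorem actHom_eq_smul (g : WithConv (A →ₐ[k] k)) (v : V) :
    actHom k A V g v = toConv g.ofConv.toLinearMap • v := rfl

theorem actHom_eq_act (g : WithConv (A →ₐ[k] k)) : actHom k A V g = HopfRep.Comod.act k A V g.ofConv := by
  refine LinearMap.ext fun v => ?_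
  simp only [actHom, MonoidHom.coe_mk, OneHom.coe_mk, dact, HopfRep.Comod.act, LinearMap.comp_apply]
  induction HopfRep.Comod.coact (k := k) (A := A) v with
  | zero => simp
  | add p q hp hq => simp only [map_add, hp, hq]
  | tmul p q => simp [rcon]

theorem coef_mem [IsAlgClosed k] (φ : V →ₗ[k] k) (v : V) : (fun g => φ (actHom k A V g v)) ∈ regFun k A :=
  ⟨coefMap (C := A) φ v, funext fun g => by
    rw [actHom_eq_smul, ← apply_lcon, coefMap_apply]
    rfl⟩

end Groth.Agent.LieKolchin
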