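import Groth.Agent.Comodule.Trig
import Groth.Agent.Comodule.Extra
import Groth.Agent.Comodule.CharIndep
import Groth.Agent.HopfFF.Coinv
import Groth.Agent.S7968

/-! Trigonalizable groups and extensions of diagonalizable groups by unipotent ones. -/

set_option autoImplicit false
set_option backward.isDefEq.respectTransparency false
universe u

open TensorProduct WithConv

noncomputable section

namespace Groth.Agent.LieKolchin.TrigDiag

open Groth.Agent.Comodule

variable (k : Type u) [Field k] (A : Type u) [CommRing A] [HopfAlgebra k A]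

/-- The map from the group algebra of the characters. -/
def charMap : MonoidAlgebra k (GroupLike k A) →ₐc[k] A :=
  BialgHom.ofAlgHom (MonoidAlgebra.lift k A (GroupLike k A) (GroupLike.valMonoidHom k A))
    (by ext g; simp) (by ext g; simp)

theorem charMap_single (g : GroupLike k A) (c : k) : charMap k A (MonoidAlgebra.single g c) = c • (g : A) := by
  simp [charMap]

theorem charMap_injective : Function.Injective (charMap k A) := by
  intro x y h
  have hlin := linearIndep_groupLikeVal (R := k) (A := A)
  have e : ∀ z : MonoidAlgebra k (GroupLike k A),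
      charMap k A z = Finsupp.linearCombination k (GroupLike.val (R := k) (A := A)) z.coeff := by
    intro z
    induction z using MonoidAlgebra.induction_linear with
    | zero => simp
    | add a b ha hb => simp [map_add, ha, hb]
    | single g c => simp [charMap_single]
  rw [e, e] at h
  exact MonoidAlgebra.coeff_injective (hlin h)

theorem isDiagonalizable_charAlg : HopfRep.IsDiagonalizable k (MonoidAlgebra k (GroupLike k A)) := by
  refine eq_top_iff.mpr fun x hx => ?_
  clear hx
  induction x using MonoidAlgebra.induction_linear with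
  | zero => exact Submodule.zero_mem _
  | add a b ha hb => exact Submodule.add_mem _ ha hb
  | single g c =>
    rw [← mul_one c, ← smul_eq_mul, ← MonoidAlgebra.smul_single]
    exact Submodule.smul_mem _ c (Submodule.subset_span ⟨by simp, by simp⟩)

/-- The ideal of the common kernel of the characters. -/
def charIdeal : Ideal A := Ideal.map ((charMap k A : MonoidAlgebra k (GroupLike k A) →ₐc[k] A) :
    MonoidAlgebra k (GroupLike k A) →+* A) (RingHom.ker (Bialgebra.counitAlgHom k (MonoidAlgebra k (GroupLike k A))))

theorem sub_one_mem (g : GroupLike k A) : (g : A) - 1 ∈ charIdeal k A := by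
  have e : (charMap k A : MonoidAlgebra k (GroupLike k A) →+* A) (MonoidAlgebra.single g 1 - 1) = (g : A) - 1 := by
    simp [charMap_single]
  rw [← e]
  exact Ideal.mem_map_of_mem _ (by simp [RingHom.mem_ker])

theorem charIdeal_le_span : charIdeal k A ≤ Ideal.span (Set.range fun g : GroupLike k A => (g : A) - 1) := by
  refine Ideal.map_le_iff_le_comap.mpr fun x hx => ?_
  have h : ∀ z : MonoidAlgebra k (GroupLike k A),
      charMap k A z - algebraMap k A (Coalgebra.counit (R := k) z) ∈
        Ideal.span (Set.range fun g : GroupLike k A => (g : A) - 1) := by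
    intro z
    induction z using MonoidAlgebra.induction_linear with
    | zero => simp
    | add a b ha hb =>
      rw [map_add, map_add, map_add, add_sub_add_comm]
      exact add_mem ha hb
    | single g c =>
      rw [charMap_single, MonoidAlgebra.counit_single, CommSemiring.counit_apply, Algebra.smul_def,
        ← mul_sub_one]
      exact Ideal.mul_mem_left _ _ (Ideal.subset_span ⟨g, rfl⟩)
  have h1 := h x
  rw [show Coalgebra.counit (R := k) x = 0 from hx, map_zero, sub_zero] at h1
  exact h1

theorem isHopfIdeal_charIdeal : (charIdeal k A).IsHopfIdeal k := by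
  set J := charIdeal k A with hJ
  have hspan : J = Ideal.span (Set.range fun g : GroupLike k A => (g : A) - 1) :=
    le_antisymm (charIdeal_le_span k A) (Ideal.span_le.mpr (Set.range_subset_iff.mpr (sub_one_mem k A)))
  let π := Ideal.Quotient.mkₐ k J
  have hπ : ∀ g : GroupLike k A, π (g : A) = 1 := fun g => by
    rw [← map_one π]; exact Ideal.Quotient.eq.mpr (sub_one_mem k A g)
  let Φ : A →ₐ[k] (A ⧸ J) ⊗[k] (A ⧸ J) := (Algebra.TensorProduct.map π π).comp (Bialgebra.comulAlgHom k A)
  have hΦ : J ≤ RingHom.ker Φ := by
    refine hspan.le.trans (Ideal.span_le.mpr ?_)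
    rintro _ ⟨g, rfl⟩
    show Φ ((g : A) - 1) = 0
    rw [map_sub, map_one]
    simp [Φ, g.isGroupLikeElem_val.comul_eq_tmul_self, hπ, Algebra.TensorProduct.one_def]
  have hS : J ≤ J.comap (HopfAlgebra.antipodeAlgHom k A) := by
    conv_lhs => rw [hspan]
    refine Ideal.span_le.mpr ?_
    rintro _ ⟨g, rfl⟩
    show HopfAlgebra.antipodeAlgHom k A ((g : A) - 1) ∈ J
    rw [map_sub, map_one]
    exact sub_one_mem k A g⁻¹
  have hco : (J.restrictScalars k).IsCoideal := by
    refine ⟨fun a ha => ?_, fun a ha => ?_⟩
    · have h : J ≤ RingHom.ker (Bialgebra.counitAlgHom k A) := by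
        rw [hspan]
        refine Ideal.span_le.mpr ?_
        rintro _ ⟨g, rfl⟩
        simp
      exact h ha
    · let σ : (A ⧸ J) →ₗ[k] A ⧸ J.restrictScalars k := (Submodule.Quotient.restrictScalarsEquiv k J).symm.toLinearMap
      have e : ∀ z : A ⊗[k] A, TensorProduct.map (J.restrictScalars k).mkQ (J.restrictScalars k).mkQ z =
          TensorProduct.map σ σ (Algebra.TensorProduct.map π π z) := by
        intro z
        induction z with
        | zero => simp
        | add p q hp hq => simp only [map_add, hp, hq]
        | tmul p q => simp [σ, π, ← Ideal.Quotient.mk_eq_mk]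
      rw [e]
      have h0 := hΦ ha
      rw [RingHom.mem_ker, AlgHom.comp_apply, Bialgebra.comulAlgHom_apply] at h0
      rw [h0, map_zero]
  exact { hco with antipode_mem := fun a ha => hS ha }

variable {k A}

theorem isUnipotent_quotient (hT : HopfRep.IsTrigonalizable k A) [(charIdeal k A).IsHopfIdeal k] :
    HopfRep.IsUnipotent k (A ⧸ charIdeal k A) := by
  refine isUnipotent_iff_fil.mpr fun q => ?_
  obtain ⟨a, rfl⟩ := Ideal.Quotient.mk_surjective q
  obtain ⟨G, h0, hsub, hstep, m, hm⟩ := hasChain_of_trig hT a
  let H := A ⧸ charIdeal k A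
  let π : A →ₐ[k] H := Ideal.Quotient.mkₐ k (charIdeal k A)
  refine ⟨m, ?_⟩
  have key : ∀ i, ∀ x ∈ G i, π x ∈ fil k H H i := by
    intro i
    induction i with
    | zero => intro x hx; rw [h0, Submodule.mem_bot] at hx; simp [hx]
    | succ i ih =>
      intro x hx
      refine mem_fil_succ.mpr fun f' hf' => ?_
      let f : WithConv (A →ₗ[k] k) := toConv (f'.ofConv ∘ₗ π.toLinearMap)
      have hsm : f' • π x = π (f • x) := by
        simp only [smul_def, dact, LinearMap.comp_apply, coact_regular]
        rw [show Coalgebra.comul (R := k) (π x) = TensorProduct.map π.toLinearMap π.toLinearMap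
          (Coalgebra.comul (R := k) x) from rfl]
        induction Coalgebra.comul (R := k) x with
        | zero => simp
        | add p q hp hq => simp only [map_add, hp, hq]
        | tmul p q => simp [rcon, f]
      rw [hsm]
      by_cases hxi : x ∈ G i
      · exact ih _ (isSubcomod_iff.mp (hsub i) f x hxi)
      obtain ⟨e, he⟩ := hstep i
      -- every element of the step is a multiple of `x` modulo the previous one
      obtain ⟨φ, hφ, hφG⟩ := Submodule.exists_dual_map_eq_bot_of_notMem hxi inferInstance
      let φ₁ : A →ₗ[k] k := (φ x)⁻¹ • φ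
      have hφ₁ : φ₁ x = 1 := by simp [φ₁, hφ]
      have hφ₁G : ∀ w ∈ G i, φ₁ w = 0 := fun w hw => by
        have : φ w = 0 := by rw [← Submodule.mem_bot k, ← hφG]; exact Submodule.mem_map_of_mem hw
        simp [φ₁, this]
      have hmod : ∀ z ∈ G (i + 1), z - φ₁ z • x ∈ G i := by
        intro z hz
        obtain ⟨a₁, ha₁, b₁, hb₁, e₁⟩ := Submodule.mem_sup.mp (he hx)
        obtain ⟨s, rfl⟩ := Submodule.mem_span_singleton.mp hb₁
        obtain ⟨a₂, ha₂, b₂, hb₂, rfl⟩ := Submodule.mem_sup.mp (he hz)
        obtain ⟨t, rfl⟩ := Submodule.mem_span_singleton.mp hb₂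
        have hs : s * φ₁ e = 1 := by
          rw [← hφ₁, ← e₁, map_add, hφ₁G _ ha₁, zero_add, map_smul, smul_eq_mul]
        rw [map_add, hφ₁G _ ha₂, zero_add, map_smul, smul_eq_mul]
        have : a₂ + t • e - (t * φ₁ e) • x = a₂ - (t * φ₁ e) • a₁ := by
          rw [← e₁, smul_add, smul_smul, show t * φ₁ e * s = t * (s * φ₁ e) by ring, hs, mul_one]
          abel
        rw [this]
        exact Submodule.sub_mem _ ha₂ (Submodule.smul_mem _ _ ha₁)
      -- the coefficient of the step is a character
      let c : A := coefMap (C := A) φ₁ x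
      have hc : ∀ g : WithConv (A →ₗ[k] k), g.ofConv c = φ₁ (g • x) := fun g => apply_lcon g φ₁ x
      have hmem : ∀ g : WithConv (A →ₗ[k] k), g • x - g.ofConv c • x ∈ G i := fun g => by
        rw [hc]; exact hmod _ (isSubcomod_iff.mp (hsub (i + 1)) g x hx)
      have hmul : ∀ g g' : WithConv (A →ₗ[k] k), (g * g').ofConv c = g.ofConv c * g'.ofConv c := fun g g' => by
        rw [hc (g * g'), mul_smul, ← sub_add_cancel (g' • x) (g'.ofConv c • x), smul_add, map_add,
          hφ₁G _ (isSubcomod_iff.mp (hsub i) g _ (hmem g')), zero_add, smul_comm, map_smul, smul_eq_mul, ← hc,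
          mul_comm]
      have hcg : IsGroupLikeElem k c := by
        refine ⟨?_, ?_⟩
        · have := hc 1
          rw [one_smul, hφ₁] at this
          simpa [LinearMap.convOne_def] using this
        · refine eq_of_sub_eq_zero ?_
          classical
          let b := Module.Basis.ofVectorSpace k A
          apply (b.tensorProduct b).repr.injective
          rw [map_zero]
          ext ⟨i₁, i₂⟩
          rw [map_sub, Finsupp.sub_apply, Finsupp.zero_apply, sub_eq_zero]
          have h := hmul (toConv (b.coord i₁)) (toConv (b.coord i₂))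
          rw [LinearMap.convMul_def] at h
          simp only [LinearMap.comp_apply, WithConv.ofConv_toConv, Module.Basis.coord_apply] at h
          rw [Module.Basis.tensorProduct_repr_tmul_apply, smul_eq_mul, mul_comm, ← h]
          clear h hmul hmem hc
          induction Coalgebra.comul (R := k) c with
          | zero => simp
          | add p q hp hq => simp only [map_add, Finsupp.add_apply, hp, hq]
          | tmul p q => simp [Module.Basis.tensorProduct_repr_tmul_apply, mul_comm]
      have hc1 : π c = 1 := by
        rw [← map_one π]; exact Ideal.Quotient.eq.mpr (sub_one_mem k A ⟨c, hcg⟩)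
      have : f.ofConv c = 0 := by
        show f'.ofConv (π c) = 0
        rw [hc1, hf']
      have h := hmem f
      rw [this, zero_smul, sub_zero] at h
      exact ih _ h
  exact key m a hm

theorem trig_of_extension {B : Type u} [CommRing B] [HopfAlgebra k B] [Algebra.FiniteType k A] (ψ : B →ₐc[k] A)
    (hD : HopfRep.IsDiagonalizable k B) (J : Ideal A) [J.IsHopfIdeal k]
    (hJ : J = Ideal.map (ψ : B →+* A) (RingHom.ker (Bialgebra.counitAlgHom k B)))
    (hU : HopfRep.IsUnipotent k (A ⧸ J)) : HopfRep.IsTrigonalizable k A := by
  let R : Subalgebra k A := (ψ : B →ₐ[k] A).range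
  have hR : HopfFF.IsHopfSub R := by
    constructor
    · rintro _ ⟨b, rfl⟩
      refine ⟨TensorProduct.map (ψ : B →ₐ[k] A).rangeRestrict.toLinearMap (ψ : B →ₐ[k] A).rangeRestrict.toLinearMap
        (Coalgebra.comul (R := k) b), ?_⟩
      refine Eq.trans ?_ (CoalgHomClass.map_comp_comul_apply ψ b)
      induction Coalgebra.comul (R := k) b with
      | zero => simp
      | add p q hp hq => simp only [map_add, hp, hq]
      | tmul p q => simp
    · rintro _ ⟨b, rfl⟩
      exact ⟨HopfAlgebra.antipode k b, HopfFF.map_antipode' ψ b⟩
  have hJR : J ≤ Ideal.span {b : A | b ∈ R ∧ Coalgebra.counit (R := k) b = 0} := by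
    rw [hJ]
    refine Ideal.map_le_iff_le_comap.mpr fun b hb => Ideal.subset_span ⟨⟨b, rfl⟩, ?_⟩
    exact (CoalgHomClass.counit_comp_apply ψ b).trans hb
  have hN : SGA3.IsNormalHopfIdeal k A J := by
    intro T _ _ g h hh
    have hgen : ∀ b : B, Bialgebra.counitAlgHom k B b = 0 →
        Dyn.conv3 k A g h (g.comp (HopfAlgebra.antipodeAlgHom k A)) (ψ b) = 0 := by
      intro b hb
      have hconv : Dyn.conv3 k A g h (g.comp (HopfAlgebra.antipodeAlgHom k A)) =
          (toConv g * toConv h * toConv (g.comp (HopfAlgebra.antipodeAlgHom k A))).ofConv := by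
        refine AlgHom.ext fun a => ?_
        rw [AlgHom.convMul_apply]
        simp only [Dyn.conv3, AlgHom.comp_apply, Bialgebra.comulAlgHom_apply]
        induction Coalgebra.comul (R := k) a with
        | zero => simp
        | add p q hp hq => simp only [map_add, hp, hq]
        | tmul p q => simp [AlgHom.convMul_apply]; congr 1; induction Coalgebra.comul (R := k) p with
          | zero => simp
          | add r s hr hs => simp only [map_add, hr, hs]
          | tmul r s => simp
      let P : WithConv (A →ₐ[k] T) → WithConv (B →ₐ[k] T) := fun z => toConv (z.ofConv.comp (ψ : B →ₐ[k] A))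
      have hP : ∀ x y, P (x * y) = P x * P y := fun x y =>
        WithConv.ofConv_injective (AlgHom.convMul_comp_bialgHom_distrib x y ψ)
      have hP1 : P (toConv h) = 1 := by
        refine WithConv.ofConv_injective (AlgHom.ext fun x => ?_)
        rw [AlgHom.convOne_apply]
        show h (ψ x) = _
        have h0 := hh _ (hJ ▸ Ideal.mem_map_of_mem (ψ : B →+* A)
          (x := x - algebraMap k B (Coalgebra.counit (R := k) x)) (by simp [RingHom.mem_ker]))
        change h (ψ (x - algebraMap k B _)) = 0 at h0
        rw [map_sub, map_sub, AlgHomClass.commutes, AlgHom.commutes, sub_eq_zero] at h0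
        exact h0
      rw [hconv]
      show (P (toConv g * toConv h * toConv (g.comp (HopfAlgebra.antipodeAlgHom k A)))).ofConv b = 0
      rw [hP, hP, hP1, mul_one, ← hP, HopfFF.comp_antipode_right]
      show (1 : WithConv (A →ₐ[k] T)).ofConv (ψ b) = 0
      rw [AlgHom.convOne_apply, CoalgHomClass.counit_comp_apply ψ b]
      simp [show Coalgebra.counit (R := k) b = 0 from hb]
    intro a ha
    have hle : J ≤ RingHom.ker (Dyn.conv3 k A g h (g.comp (HopfAlgebra.antipodeAlgHom k A))) :=
      hJ.le.trans (Ideal.map_le_iff_le_comap.mpr fun b hb => RingHom.mem_ker.mpr (hgen b hb))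
    exact RingHom.mem_ker.mp (hle ha)
  intro V _ _ _ hfin hV
  haveI := hV.1
  -- all vectors are fixed by the kernel
  let π : A →ₐ[k] A ⧸ J := Ideal.Quotient.mkₐ k J
  let W : Submodule k V :=
    LinearMap.ker (π.toLinearMap.lTensor V ∘ₗ HopfRep.Comod.coact (k := k) (A := A) -
      (TensorProduct.mk k V (A ⧸ J)).flip 1)
  have hWmem : ∀ v : V, v ∈ W ↔ π.toLinearMap.lTensor V (HopfRep.Comod.coact (k := k) (A := A) v) =
      v ⊗ₜ[k] (1 : A ⧸ J) := fun v => by simp [W, sub_eq_zero]
  have hW := S7968.result k A J hN V W hWmem
  have hWtop : W = ⊤ := by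
    refine (hV.2 W hW).resolve_left fun hbot => ?_
    letI : HopfRep.Comod k (A ⧸ J) V :=
      { coact := π.toLinearMap.lTensor V ∘ₗ HopfRep.Comod.coact (k := k) (A := A)
        coassoc := by
          refine LinearMap.ext fun v => ?_
          have hc := LinearMap.congr_fun (HopfRep.Comod.coassoc (k := k) (A := A) (V := V)) v
          simp only [LinearMap.comp_apply, LinearEquiv.coe_coe] at hc ⊢
          have h2 := congrArg ((TensorProduct.map π.toLinearMap π.toLinearMap).lTensor V) hc
          refine Eq.trans ?_ (h2.trans ?_)
          · generalize HopfRep.Comod.coact (k := k) (A := A) v = z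
            induction z with
            | zero => simp
            | add p q hp hq => simp only [map_add, hp, hq]
            | tmul p q =>
              simp only [LinearMap.lTensor_tmul, LinearMap.rTensor_tmul, LinearMap.comp_apply]
              generalize HopfRep.Comod.coact (k := k) (A := A) p = y
              induction y with
              | zero => simp
              | add r s hr hs => simp only [map_add, TensorProduct.add_tmul, hr, hs]
              | tmul r s => simp
          · generalize HopfRep.Comod.coact (k := k) (A := A) v = z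
            induction z with
            | zero => simp
            | add p q hp hq => simp only [map_add, hp, hq]
            | tmul p q => simp only [LinearMap.lTensor_tmul]; rfl
        counit_comp := by
          refine LinearMap.ext fun v => ?_
          refine Eq.trans ?_ (LinearMap.congr_fun (HopfRep.Comod.counit_comp (k := k) (A := A) (V := V)) v)
          simp only [LinearMap.comp_apply]
          induction HopfRep.Comod.coact (k := k) (A := A) v with
          | zero => simp
          | add p q hp hq => simp only [map_add, hp, hq]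
          | tmul p q => simp only [LinearMap.lTensor_tmul]; rfl }
    refine hU V hfin hV.1 ((Submodule.eq_bot_iff _).mpr fun v hv => ?_)
    rw [← Submodule.mem_bot k, ← hbot, hWmem]
    exact hv
  have hs := isSimpleComod_iff.mp hV
  obtain ⟨v, hv⟩ := exists_ne (0 : V)
  obtain ⟨φ, hφ⟩ : ∃ φ : V →ₗ[k] k, coefMap (C := A) φ v ≠ 0 := by
    by_contra hc
    exact hv (eq_zero_of_coefMap (k := k) (C := A) fun φ => not_not.mp fun h' => hc ⟨φ, h'⟩)
  have hinj : Function.Injective (coefMap (C := A) φ) :=
    (coefMap_injective_or_eq_zero (k := k) (C := A) (V := V) φ).resolve_right fun h1 => hφ (by rw [h1]; rfl)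
  -- the coefficients are invariant, hence combinations of characters
  have hspan : ∀ w : V, coefMap (C := A) φ w ∈ Submodule.span k {a : A | IsGroupLikeElem k a} := by
    intro w
    have hmem : coefMap (C := A) φ w ∈ R := by
      refine HopfFF.mem_of_right_coinv hR hJR ?_
      have h1 := LinearMap.congr_fun (isComodHom_restrictScalars (coefMap (C := A) φ)) w
      simp only [LinearMap.comp_apply, coact_regular, LinearMap.coe_restrictScalars] at h1
      rw [show Coalgebra.comul (R := k) (coefMap (C := A) φ w) = _ from h1]
      have e : ∀ z : V ⊗[k] A, π.toLinearMap.lTensor A (((coefMap (C := A) φ).restrictScalars k).rTensor A z) =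
          ((coefMap (C := A) φ).restrictScalars k).rTensor (A ⧸ J) (π.toLinearMap.lTensor V z) := by
        intro z
        induction z with
        | zero => simp
        | add p q hp hq => simp only [map_add, hp, hq]
        | tmul p q => simp
      rw [e, (hWmem w).mp (hWtop ▸ Submodule.mem_top)]
      rfl
    obtain ⟨b, hb⟩ := hmem
    rw [← hb]
    have h2 : b ∈ Submodule.span k {a : B | IsGroupLikeElem k a} := by rw [hD]; trivial
    refine (Submodule.map_span_le (ψ : B →ₐ[k] A).toLinearMap _ _).mpr ?_ (Submodule.mem_map_of_mem h2)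
    exact fun a ha => Submodule.subset_span (IsGroupLikeElem.map ψ ha)
  let S := LinearMap.range (coefMap (C := A) φ)
  haveI : IsSimpleModule (WithConv (A →ₗ[k] k)) S :=
    IsSimpleModule.congr (LinearEquiv.ofInjective _ hinj).symm
  obtain ⟨cc, hcc⟩ := Finsupp.mem_span_iff_linearCombination _ _ _ |>.mp (hspan v)
  have hne : cc ≠ 0 := fun h0 => hφ (by rw [← hcc, h0, map_zero])
  obtain ⟨g₀, hg₀⟩ := Finsupp.ne_iff.mp hne
  rw [Finsupp.zero_apply] at hg₀
  -- the coordinate functional of one character
  classical
  have li := linearIndepOn_isGroupLikeElem (R := k) (A := A)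
  let bb := Module.Basis.extend li
  let f : WithConv (A →ₗ[k] k) := toConv (bb.coord ⟨g₀, LinearIndepOn.subset_extend li (Set.subset_univ _) g₀.2⟩)
  have hf : ∀ g : {a : A | IsGroupLikeElem k a}, f.ofConv (g : A) = if g = g₀ then 1 else 0 := by
    intro g
    have hg : (g : A) = bb ⟨g, LinearIndepOn.subset_extend li (Set.subset_univ _) g.2⟩ := by
      simp [bb, Module.Basis.extend_apply_self]
    rw [hg]
    simp only [f, WithConv.ofConv_toConv, Module.Basis.coord_apply, Module.Basis.repr_self, Finsupp.single_apply]
    congr 1
    simp [Subtype.ext_iff]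
  have hgl : ∀ (a : A), IsGroupLikeElem k a → ∀ e : WithConv (A →ₗ[k] k), e • a = e.ofConv a • a := by
    intro a ha e
    rw [smul_def, dact, LinearMap.comp_apply, coact_regular, ha.comul_eq_tmul_self]
    simp [rcon]
  have hg₀S : (g₀ : A) ∈ S := by
    have hx : f • coefMap (C := A) φ v = cc g₀ • (g₀ : A) := by
      rw [← hcc, Finsupp.linearCombination_apply, Finsupp.sum, Finset.smul_sum, Finset.sum_eq_single g₀]
      · rw [smul_comm, hgl _ g₀.2, hf, if_pos rfl, one_smul]
      · intro g _ hg
        rw [smul_comm, hgl _ g.2, hf, if_neg hg, zero_smul, smul_zero]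
      · intro h
        rw [Finsupp.notMem_support_iff.mp h, zero_smul, smul_zero]
    have h1 : f • coefMap (C := A) φ v ∈ S := S.smul_mem f (LinearMap.mem_range_self _ v)
    rw [hx] at h1
    have h2 := Submodule.smul_mem (S.restrictScalars k) (cc g₀)⁻¹ h1
    rwa [smul_smul, inv_mul_cancel₀ hg₀, one_smul] at h2
  have hline : Submodule.span k {(g₀ : A)} = S.restrictScalars k := by
    refine (atom_cases (S := S) inferInstance (isSubcomod_iff.mpr fun e x hx => ?_)
      (Submodule.span_le.mpr (by simpa using hg₀S))).resolve_left fun h => ?_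
    · obtain ⟨t, rfl⟩ := Submodule.mem_span_singleton.mp hx
      rw [smul_comm, hgl _ g₀.2]
      exact Submodule.smul_mem _ _ (Submodule.smul_mem _ _ (Submodule.mem_span_singleton_self _))
    · have h1 : IsGroupLikeElem k (g₀ : A) := g₀.2
      exact h1.ne_zero (Submodule.span_singleton_eq_bot.mp h)
  have hfr : Module.finrank k V = Module.finrank k (S.restrictScalars k) :=
    LinearEquiv.finrank_eq ((LinearEquiv.ofInjective _ hinj).restrictScalars k)
  rw [hfr, ← hline, finrank_span_singleton]
  exact (show IsGroupLikeElem k (g₀ : A) from g₀.2).ne_zero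

end Groth.Agent.LieKolchin.TrigDiag
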