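import Mathlib

/-! Lie–Kolchin for abstract groups equipped with a set of "regular functions". -/

set_option autoImplicit false
universe u v w

noncomputable section
open scoped commutatorElement

namespace Groth.Agent.LieKolchin

variable {k : Type u} [Field k] {G : Type v} [Group G]

/-- Regular functions pulled back along commutator word maps stay regular. -/
def WordClosed (R : Set (G → k)) : Prop :=
  ∀ f ∈ R, ∀ x z h : G, (fun g => f (x * ⁅g, h⁆ * z)) ∈ R

/-- A regular function with finitely many values on the subgroup is constant on it. -/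
def Conn (R : Set (G → k)) (H : Subgroup G) : Prop :=
  ∀ f ∈ R, (f '' (H : Set G)).Finite → ∀ g ∈ H, f g = f 1

theorem conn_commutator {R : Set (G → k)} (hR : WordClosed R) {H : Subgroup G} (hH : Conn R H) :
    Conn R ⁅H, H⁆ := by
  intro f hf hfin
  have key : ∀ x ∈ ⁅H, H⁆, ∀ a ∈ H, ∀ b ∈ H, f (x * ⁅a, b⁆) = f x := by
    intro x hx a ha b hb
    have h := hH _ (hR f hf x 1 b) (hfin.subset ?_) a ha
    · simpa [commutatorElement_def] using h
    · rintro _ ⟨g, hg, rfl⟩
      exact ⟨x * ⁅g, b⁆ * 1, by simpa using mul_mem hx (Subgroup.commutator_mem_commutator hg hb), rfl⟩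
  have key' : ∀ y ∈ ⁅H, H⁆, y ∈ ⁅H, H⁆ ∧ ∀ x ∈ ⁅H, H⁆, f (x * y) = f x := by
    intro y hy
    rw [Subgroup.commutator_def] at hy
    induction hy using Subgroup.closure_induction with
    | mem y hy =>
      obtain ⟨a, ha, b, hb, rfl⟩ := hy
      exact ⟨Subgroup.commutator_mem_commutator ha hb, fun x hx => key x hx a ha b hb⟩
    | one => exact ⟨one_mem _, fun x _ => by rw [mul_one]⟩
    | mul y z _ _ hy hz =>
      exact ⟨mul_mem hy.1 hz.1, fun x hx => by rw [← mul_assoc, hz.2 _ (mul_mem hx hy.1), hy.2 x hx]⟩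
    | inv y _ hy =>
      exact ⟨inv_mem hy.1, fun x hx => by
        conv_rhs => rw [← inv_mul_cancel_right x y, hy.2 _ (mul_mem hx (inv_mem hy.1))]⟩
  intro g hg
  simpa using (key' g hg).2 1 (one_mem _)

theorem conn_derivedSeries {R : Set (G → k)} (hR : WordClosed R) (htop : Conn R ⊤) :
    ∀ n, Conn R (derivedSeries G n)
  | 0 => htop
  | n + 1 => conn_commutator hR (conn_derivedSeries hR htop n)

variable {V : Type w} [AddCommGroup V] [Module k V]

/-- A multiplicative function into a commutative monoid is trivial on commutators. -/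
theorem mult_commutator {M : Type*} [CommMonoid M] {H : Subgroup G} (δ : G → M) (h1 : δ 1 = 1)
    (hmul : ∀ a ∈ H, ∀ b ∈ H, δ (a * b) = δ a * δ b) {y : G} (hy : y ∈ ⁅H, H⁆) : δ y = 1 := by
  have hle : ⁅H, H⁆ ≤ H := Subgroup.commutator_le_self H
  rw [Subgroup.commutator_def] at hy
  suffices y ∈ H ∧ δ y = 1 from this.2
  induction hy using Subgroup.closure_induction with
  | mem y hy =>
    obtain ⟨a, ha, b, hb, rfl⟩ := hy
    refine ⟨hle (Subgroup.commutator_mem_commutator ha hb), ?_⟩
    rw [commutatorElement_def, hmul _ (mul_mem (mul_mem ha hb) (inv_mem ha)) _ (inv_mem hb),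
      hmul _ (mul_mem ha hb) _ (inv_mem ha), hmul _ ha _ hb]
    calc δ a * δ b * δ a⁻¹ * δ b⁻¹ = (δ a * δ a⁻¹) * (δ b * δ b⁻¹) := by ac_rfl
      _ = 1 := by rw [← hmul _ ha _ (inv_mem ha), ← hmul _ hb _ (inv_mem hb), mul_inv_cancel, mul_inv_cancel, h1, one_mul]
  | one => exact ⟨one_mem _, h1⟩
  | mul y z _ _ hy hz => exact ⟨mul_mem hy.1 hz.1, by rw [hmul _ hy.1 _ hz.1, hy.2, hz.2, one_mul]⟩
  | inv y _ hy =>
    refine ⟨inv_mem hy.1, ?_⟩
    have h := hmul _ hy.1 _ (inv_mem hy.1)
    rwa [mul_inv_cancel, h1, hy.2, one_mul, eq_comm] at h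

/-- `W` is stable under the operators coming from `H`. -/
def Stable (ρ : G →* Module.End k V) (H : Subgroup G) (W : Submodule k V) : Prop :=
  ∀ h ∈ H, ∀ w ∈ W, ρ h w ∈ W

variable [IsAlgClosed k] [FiniteDimensional k V]

theorem exists_eigen_of_stable {R : Set (G → k)} (hR : WordClosed R) (htop : Conn R ⊤)
    (ρ : G →* Module.End k V) (hcoef : ∀ (φ : V →ₗ[k] k) (v : V), (fun g => φ (ρ g v)) ∈ R)
    (n : ℕ) (hn : derivedSeries G n = ⊥) :
    ∀ j i, i + j = n → ∀ W : Submodule k V, W ≠ ⊥ → Stable ρ (derivedSeries G i) W →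
      ∃ v ∈ W, v ≠ 0 ∧ ∀ h ∈ derivedSeries G i, ∃ c : k, ρ h v = c • v := by
  intro j
  induction j with
  | zero =>
    intro i hi W hW _
    obtain rfl : i = n := by omega
    obtain ⟨v, hv, hv0⟩ := Submodule.exists_mem_ne_zero_of_ne_bot hW
    refine ⟨v, hv, hv0, fun h hh => ⟨1, ?_⟩⟩
    rw [hn, Subgroup.mem_bot] at hh
    simp [hh]
  | succ j ih =>
    intro i hi W hW hst
    classical
    set H := derivedSeries G i with hHdef
    set H' := derivedSeries G (i + 1) with hH'def
    have hH' : H' = ⁅H, H⁆ := rfl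
    have hle : H' ≤ H := hH' ▸ Subgroup.commutator_le_self H
    -- a minimal nonzero stable subspace
    have hex : ∃ d, ∃ U : Submodule k V, U ≤ W ∧ U ≠ ⊥ ∧ Stable ρ H U ∧ Module.finrank k U = d :=
      ⟨_, W, le_rfl, hW, hst, rfl⟩
    obtain ⟨U, hUW, hU0, hUst, hUd⟩ := Nat.find_spec hex
    have hmin : ∀ U' : Submodule k V, U' ≤ U → U' ≠ ⊥ → Stable ρ H U' → U' = U := by
      intro U' h1 h2 h3
      refine Submodule.eq_of_le_of_finrank_le h1 ?_
      rw [hUd]
      exact Nat.find_min' hex ⟨U', h1.trans hUW, h2, h3, rfl⟩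
    obtain ⟨v₀, hv₀, hv₀0, heig⟩ := ih (i + 1) (by omega) U hU0 fun h hh => hUst h (hle hh)
    choose! χ hχ using heig
    obtain ⟨φ, hφ⟩ : ∃ φ : V →ₗ[k] k, φ v₀ = 1 := by
      obtain ⟨ψ, hψ⟩ : ∃ ψ : V →ₗ[k] k, ψ v₀ ≠ 0 := by
        by_contra hc
        exact hv₀0 ((Module.forall_dual_apply_eq_zero_iff k v₀).mp fun ψ => not_not.mp fun h => hc ⟨ψ, h⟩)
      exact ⟨(ψ v₀)⁻¹ • ψ, by simp [hψ]⟩
    have hχφ : ∀ y ∈ H', φ (ρ y v₀) = χ y := fun y hy => by rw [hχ y hy, map_smul, hφ, smul_eq_mul, mul_one]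
    -- the character is invariant under conjugation
    have hconj : ∀ g ∈ H', ∀ h ∈ H, h * g * h⁻¹ ∈ H' ∧ χ (h * g * h⁻¹) = χ g := by
      intro g hg
      have hmem : ∀ h ∈ H, h * g * h⁻¹ ∈ H' := fun h hh => by
        have e : h * g * h⁻¹ = ⁅h, g⁆ * g := by simp [commutatorElement_def, mul_assoc]
        rw [e]
        exact mul_mem (hH' ▸ Subgroup.commutator_mem_commutator hh (hle hg)) hg
      have hfin : ((fun h => φ (ρ (1 * ⁅h, g⁆ * g) v₀)) '' (H : Set G)).Finite := by
        refine (Module.End.finite_hasEigenvalue (ρ g)).subset ?_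
        rintro _ ⟨h, hh, rfl⟩
        have e : 1 * ⁅h, g⁆ * g = h * g * h⁻¹ := by simp [commutatorElement_def, mul_assoc]
        show Module.End.HasEigenvalue (ρ g) (φ (ρ (1 * ⁅h, g⁆ * g) v₀))
        rw [e, hχφ _ (hmem h hh)]
        refine Module.End.hasEigenvalue_of_hasEigenvector (x := ρ h⁻¹ v₀) ⟨?_, ?_⟩
        · rw [Module.End.mem_eigenspace_iff, ← Module.End.mul_apply, ← map_mul,
            show g * h⁻¹ = h⁻¹ * (h * g * h⁻¹) by group, map_mul, Module.End.mul_apply, hχ _ (hmem h hh), map_smul]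
        · intro h0
          have := congrArg (ρ h) h0
          rw [← Module.End.mul_apply, ← map_mul, mul_inv_cancel, map_one, Module.End.one_apply, map_zero] at this
          exact hv₀0 this
      intro h hh
      refine ⟨hmem h hh, ?_⟩
      have := conn_derivedSeries hR htop i _ (hR _ (hcoef φ v₀) 1 g g) hfin h hh
      simp only [one_mul, commutatorElement_def, mul_inv_cancel, inv_one, mul_one, inv_mul_cancel_right] at this
      rw [← hχφ _ (hmem h hh), this, hχφ g hg]
    -- the eigenspace of the character is everything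
    let E : Submodule k V :=
      { carrier := {w | w ∈ U ∧ ∀ g ∈ H', ρ g w = χ g • w}
        zero_mem' := ⟨U.zero_mem, fun g _ => by simp⟩
        add_mem' := fun {a b} ha hb => ⟨U.add_mem ha.1 hb.1, fun g hg => by
          rw [map_add, ha.2 g hg, hb.2 g hg, smul_add]⟩
        smul_mem' := fun c a ha => ⟨U.smul_mem c ha.1, fun g hg => by rw [map_smul, ha.2 g hg, smul_comm]⟩ }
    have hE : E = U := by
      refine hmin E (fun w hw => hw.1) (fun h => hv₀0 ?_) fun h hh w hw => ⟨hUst h hh w hw.1, fun g hg => ?_⟩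
      · have : v₀ ∈ E := ⟨hv₀, hχ⟩
        rwa [h, Submodule.mem_bot] at this
      · obtain ⟨hm, hc⟩ := hconj g hg h⁻¹ (inv_mem hh)
        rw [inv_inv] at hm hc
        rw [← Module.End.mul_apply, ← map_mul, show g * h = h * (h⁻¹ * g * h) by group, map_mul,
          Module.End.mul_apply, hw.2 _ hm, hc, map_smul]
    have hscal : ∀ g ∈ H', ∀ w ∈ U, ρ g w = χ g • w := fun g hg w hw => (hE.ge hw).2 g hg
    -- the determinant on `U` kills commutators, so the character is trivial
    let δ : G → k := fun g =>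
      if hg : g ∈ H then LinearMap.det ((ρ g).restrict (fun w hw => hUst g hg w hw)) else 0
    have hδ1 : δ 1 = 1 := by
      simp only [δ, dif_pos (one_mem H)]
      rw [show (ρ 1).restrict (fun w hw => hUst 1 (one_mem H) w hw) = LinearMap.id from
        LinearMap.ext fun w => Subtype.ext (by simp), LinearMap.det_id]
    have hδm : ∀ a ∈ H, ∀ b ∈ H, δ (a * b) = δ a * δ b := by
      intro a ha b hb
      simp only [δ, dif_pos ha, dif_pos hb, dif_pos (mul_mem ha hb)]
      rw [← LinearMap.det_comp]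
      congr 1
      exact LinearMap.ext fun w => Subtype.ext (by simp)
    have hd : 0 < Module.finrank k U := Module.finrank_pos_iff.mpr (Submodule.nontrivial_iff_ne_bot.mpr hU0)
    have hpow : ∀ y ∈ H', χ y ^ Module.finrank k U = 1 := by
      intro y hy
      have h := mult_commutator δ hδ1 hδm (hH' ▸ hy)
      simp only [δ, dif_pos (hle hy)] at h
      rwa [show (ρ y).restrict (fun w hw => hUst y (hle hy) w hw) = χ y • LinearMap.id from
        LinearMap.ext fun w => Subtype.ext (by simp [hscal y hy w w.2]), LinearMap.det_smul, LinearMap.det_id,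
        mul_one] at h
    have hχ1 : ∀ y ∈ H', χ y = 1 := by
      intro y hy
      have hfin : ((fun g => φ (ρ g v₀)) '' (H' : Set G)).Finite := by
        refine (Multiset.toFinset (Polynomial.nthRoots (Module.finrank k U) (1 : k))).finite_toSet.subset ?_
        rintro _ ⟨z, hz, rfl⟩
        simp only [Finset.mem_coe, Multiset.mem_toFinset, Polynomial.mem_nthRoots hd]
        rw [hχφ z hz, hpow z hz]
      have := conn_derivedSeries hR htop (i + 1) _ (hcoef φ v₀) hfin y hy
      rw [← hχφ y hy, this, map_one, Module.End.one_apply, hφ]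
    have hcomm : ∀ a ∈ H, ∀ b ∈ H, ∀ w ∈ U, ρ a (ρ b w) = ρ b (ρ a w) := by
      intro a ha b hb w hw
      have hc : ⁅a, b⁆ ∈ H' := hH' ▸ Subgroup.commutator_mem_commutator ha hb
      rw [← Module.End.mul_apply, ← map_mul, show a * b = ⁅a, b⁆ * (b * a) by simp [commutatorElement_def, mul_assoc],
        map_mul, Module.End.mul_apply, hscal _ hc _ (hUst _ (mul_mem hb ha) w hw), hχ1 _ hc, one_smul, map_mul,
        Module.End.mul_apply]
    obtain ⟨v, hv, hv0⟩ := Submodule.exists_mem_ne_zero_of_ne_bot hU0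
    refine ⟨v, hUW hv, hv0, fun h hh => ?_⟩
    haveI : Nontrivial U := Submodule.nontrivial_iff_ne_bot.mpr hU0
    obtain ⟨c, hc⟩ := Module.End.exists_eigenvalue ((ρ h).restrict (fun w hw => hUst h hh w hw))
    obtain ⟨x, hx⟩ := hc.exists_hasEigenvector
    refine ⟨c, ?_⟩
    let Ec : Submodule k V := U ⊓ Module.End.eigenspace (ρ h) c
    have hEc : Ec = U := by
      refine hmin Ec inf_le_left (fun h0 => hx.2 ?_) fun a ha w hw => ⟨hUst a ha w hw.1, ?_⟩
      · have hxE : (x : V) ∈ Ec := ⟨x.2, Module.End.mem_eigenspace_iff.mpr (congrArg Subtype.val hx.apply_eq_smul)⟩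
        rw [h0, Submodule.mem_bot] at hxE
        exact Subtype.ext hxE
      · rw [SetLike.mem_coe, Module.End.mem_eigenspace_iff, hcomm h hh a ha w hw.1,
          Module.End.mem_eigenspace_iff.mp hw.2, map_smul]
    exact Module.End.mem_eigenspace_iff.mp (hEc.ge hv).2

/-- Lie–Kolchin: a connected solvable group has a common eigenvector. -/
theorem exists_eigen [Nontrivial V] [Group.IsSolvable G] {R : Set (G → k)} (hR : WordClosed R) (htop : Conn R ⊤)
    (ρ : G →* Module.End k V) (hcoef : ∀ (φ : V →ₗ[k] k) (v : V), (fun g => φ (ρ g v)) ∈ R) :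
    ∃ v : V, v ≠ 0 ∧ ∀ g, ∃ c : k, ρ g v = c • v := by
  obtain ⟨n, hn⟩ := Group.IsSolvable.solvable (G := G)
  obtain ⟨v, -, hv, h⟩ := exists_eigen_of_stable hR htop ρ hcoef n hn n 0 (zero_add n) ⊤ top_ne_bot
    fun _ _ _ _ => trivial
  exact ⟨v, hv, fun g => h g trivial⟩

/-- The derived group of a connected solvable group acts unipotently. -/
theorem isNilpotent_of_mem_commutator [Group.IsSolvable G] {R : Set (G → k)} (hR : WordClosed R) (htop : Conn R ⊤)
    (ρ : G →* Module.End k V) (hcoef : ∀ (φ : V →ₗ[k] k) (v : V), (fun g => φ (ρ g v)) ∈ R)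
    {y : G} (hy : y ∈ commutator G) : IsNilpotent (ρ y - 1) := by
  have key : ∀ d, ∀ W : Submodule k V, Module.finrank k (V ⧸ W) ≤ d → Stable ρ ⊤ W →
      ∃ N : ℕ, ∀ v, ((ρ y - 1 : Module.End k V) ^ N) v ∈ W := by
    intro d
    induction d with
    | zero =>
      intro W hW _
      refine ⟨0, fun v => ?_⟩
      haveI : Subsingleton (V ⧸ W) := Module.finrank_zero_iff.mp (Nat.le_zero.mp hW)
      simpa using (Submodule.Quotient.mk_eq_zero W).mp (Subsingleton.elim (Submodule.Quotient.mk (p := W) v) 0)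
    | succ d ih =>
      intro W hW hst
      by_cases hd : Module.finrank k (V ⧸ W) ≤ d
      · exact ih W hd hst
      haveI : Nontrivial (V ⧸ W) := Module.finrank_pos_iff.mp (Nat.lt_of_le_of_lt (Nat.zero_le d) (not_le.mp hd))
      let ρ' : G →* Module.End k (V ⧸ W) :=
        { toFun := fun g => W.mapQ W (ρ g) (fun w hw => hst g trivial w hw)
          map_one' := Submodule.linearMap_qext _ (LinearMap.ext fun v => by simp)
          map_mul' := fun a b => Submodule.linearMap_qext _ (LinearMap.ext fun v => by simp) }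
      obtain ⟨x, hx0, hx⟩ := exists_eigen hR htop ρ' (fun φ q => by
        obtain ⟨v, rfl⟩ := W.mkQ_surjective q
        simpa [ρ'] using hcoef (φ ∘ₗ W.mkQ) v)
      choose c hc using hx
      have hcm : ∀ a b, c (a * b) = c a * c b := fun a b => by
        have h := hc (a * b)
        rw [map_mul, Module.End.mul_apply, hc b, map_smul, hc a, smul_smul] at h
        rw [mul_comm (c a)]
        exact (smul_left_injective k hx0 h).symm
      have hc1 : c 1 = 1 := by
        have h := hc 1
        rw [map_one, Module.End.one_apply] at h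
        exact (smul_left_injective k hx0 (h.symm.trans (one_smul k x).symm))
      have hcy : c y = 1 := mult_commutator (H := ⊤) c hc1 (fun a _ b _ => hcm a b) hy
      let L : Submodule k V := Submodule.comap W.mkQ (Submodule.span k {x})
      have hWL : W ≤ L := fun w hw => by
        simp [L, Submodule.mem_comap, (Submodule.Quotient.mk_eq_zero W).mpr hw]
      have hL : Module.finrank k (V ⧸ L) ≤ d := by
        have hlt : W < L := hWL.lt_of_ne fun h => by
          obtain ⟨v, rfl⟩ := W.mkQ_surjective x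
          exact hx0 ((Submodule.Quotient.mk_eq_zero W).mpr (h.ge (show v ∈ L from Submodule.mem_span_singleton_self _)))
        have h1 := Submodule.finrank_lt_finrank_of_lt hlt
        have h2 := W.finrank_quotient_add_finrank
        have h3 := L.finrank_quotient_add_finrank
        omega
      obtain ⟨N, hN⟩ := ih L hL fun g _ w hw => by
        obtain ⟨t, ht⟩ := Submodule.mem_span_singleton.mp (show W.mkQ w ∈ Submodule.span k {x} from hw)
        refine Submodule.mem_span_singleton.mpr ⟨t * c g, ?_⟩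
        rw [show W.mkQ (ρ g w) = ρ' g (W.mkQ w) from rfl, ← ht, map_smul, hc, smul_smul]
      refine ⟨N + 1, fun v => ?_⟩
      rw [pow_succ', Module.End.mul_apply]
      obtain ⟨t, ht⟩ := Submodule.mem_span_singleton.mp
        (show W.mkQ (((ρ y - 1) ^ N) v) ∈ Submodule.span k {x} from hN v)
      refine (Submodule.Quotient.mk_eq_zero W).mp ?_
      rw [LinearMap.sub_apply, Module.End.one_apply, Submodule.Quotient.mk_sub,
        show Submodule.Quotient.mk (ρ y _) = ρ' y (W.mkQ (((ρ y - 1) ^ N) v)) from rfl,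
        show Submodule.Quotient.mk (((ρ y - 1) ^ N) v) = W.mkQ (((ρ y - 1) ^ N) v) from rfl,
        ← ht, map_smul, hc, hcy, one_smul, sub_self]
  obtain ⟨N, hN⟩ := key _ ⊥ le_rfl fun _ _ w hw => by
    rw [Submodule.mem_bot] at hw ⊢
    simp [hw]
  exact ⟨N, LinearMap.ext fun v => (Submodule.mem_bot k).mp (hN v)⟩

end Groth.Agent.LieKolchin
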